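import Cfsg.Agent.Lib.OddDegree.SumSquares
import Cfsg.Agent.Lib.PSolvable.Core
import Cfsg.Agent.Lib.PGroup.Frattini
import Cfsg.Agent.Lib.Transfer.Criteria
import Cfsg.Agent.S0081

/-!
# Squares of odd degrees and a normal complement of a Sylow `2`-normalizer
-/

set_option autoImplicit false

namespace Cfsg.Agent.Lib.OddDegree

open Cfsg Cfsg.Agent.Lib Cfsg.Agent.Lib.Clifford
open scoped commutatorElement

universe u

variable {G : Type u} [Group G] [Finite G] (P : Sylow 2 G)

/-- The normalizer of the Sylow subgroup. -/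
abbrev nrm : Subgroup G := Subgroup.normalizer ((P : Subgroup G) : Set G)

omit [Finite G] in
theorem le_nrm : (P : Subgroup G) ≤ nrm P := Subgroup.le_normalizer

/-- The Sylow subgroup inside its normalizer. -/
abbrev sylN : Subgroup (nrm P) := (P : Subgroup G).subgroupOf (nrm P)

instance sylN_normal : (sylN P).Normal := Subgroup.normal_subgroupOf_of_le_normalizer le_rfl

theorem odd_index_sylow : Odd (P : Subgroup G).index :=
  Nat.not_even_iff_odd.mp fun h => P.not_dvd_index h.two_dvd

theorem odd_index_of_le {H : Subgroup G} (h : (P : Subgroup G) ≤ H) : Odd H.index :=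
  (odd_index_sylow P).of_dvd_nat (Subgroup.index_dvd_of_le h)

theorem odd_index_sylN : Odd (sylN P).index :=
  (odd_index_sylow P).of_dvd_nat (Subgroup.relIndex_dvd_index_of_le (le_nrm P))

theorem isPGroup_sylN : IsPGroup 2 (sylN P) :=
  P.2.of_equiv (Subgroup.subgroupOfEquivOfLe (le_nrm P)).symm

/-- Isomorphic groups have derived subgroups of the same order. -/
theorem card_commutator_congr {A B : Type*} [Group A] [Group B] (e : A ≃* B) :
    Nat.card (commutator A) = Nat.card (commutator B) := by
  have h : (commutator A).map e.toMonoidHom = commutator B := by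
    rw [commutator_def, commutator_def, Subgroup.map_commutator,
      Subgroup.map_top_of_surjective _ e.surjective]
  rw [← h]
  exact Nat.card_congr ((commutator A).equivMapOfInjective _ e.injective).toEquiv

theorem card_nrm : Nat.card (nrm P) = Nat.card (commutator (P : Subgroup G)) * oddSum (nrm P) := by
  rw [oddSum_eq_index (sylN P) (isPGroup_sylN P) (odd_index_sylN P),
    ← card_commutator_congr (Subgroup.subgroupOfEquivOfLe (le_nrm P)),
    Nat.card_congr ((commutator (sylN P)).equivMapOfInjective (sylN P).subtype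
      (Subgroup.subtype_injective _)).toEquiv, Subgroup.card_mul_index]

theorem oddSum_nrm_le : oddSum (nrm P) ≤ oddSum G :=
  (oddSum_le (nrm P) (odd_index_of_le P (le_nrm P))).1

/-- Irreducible characters of odd degree are trivial on a normal complement of the normalizer. -/
theorem le_kerIrr_of_complement (K : Subgroup G) [K.Normal] (hK : K ⊓ nrm P = ⊥) (χ : IrrCharacter G) (hχ : Odd (deg χ)) :
    K ≤ Codegree.kerIrr χ := by
  classical
  cases nonempty_fintype G
  have := Fintype.ofFinite K
  let act : MulAction (P : Subgroup G) {k : K // k ≠ 1} :=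
    { smul := fun g k => ⟨MulAut.conjNormal (g : G) k.1, fun h => k.2 (by
        have := congrArg (MulAut.conjNormal (g : G))⁻¹ h
        simpa using this)⟩
      one_smul := fun k => Subtype.ext (show MulAut.conjNormal ((1 : (P : Subgroup G)) : G) k.1 = k.1 by
        simp)
      mul_smul := fun a b k => Subtype.ext (show MulAut.conjNormal ((a * b : (P : Subgroup G)) : G) k.1
          = MulAut.conjNormal (a : G) (MulAut.conjNormal (b : G) k.1) by simp) }
  have hfix : IsEmpty (MulAction.fixedPoints (P : Subgroup G) {k : K // k ≠ 1}) := by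
    refine ⟨fun ⟨k, hk⟩ => k.2 (Subtype.ext ?_)⟩
    have hc : ∀ g ∈ (P : Subgroup G), g * (k.1 : G) * g⁻¹ = (k.1 : G) := fun g hg => by
      have := congrArg (fun x : {k : K // k ≠ 1} => (x.1 : G)) (hk ⟨g, hg⟩)
      exact this
    have hn : (k.1 : G) ∈ nrm P := by
      rw [Subgroup.mem_normalizer_iff]
      intro h
      have key : ∀ g ∈ (P : Subgroup G), (k.1 : G) * g * (k.1 : G)⁻¹ = g := fun g hg => by
        have := hc g hg
        calc (k.1 : G) * g * (k.1 : G)⁻¹ = (g * (k.1 : G) * g⁻¹) * g * (k.1 : G)⁻¹ := by rw [this]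
          _ = g := by group
      constructor
      · intro hh; rw [key h hh]; exact hh
      · intro hh
        have h1 := key _ hh
        have h2 : (k.1 : G) * h * (k.1 : G)⁻¹ = h := by
          have h3 : (k.1 : G) * ((k.1 : G) * h * (k.1 : G)⁻¹) * (k.1 : G)⁻¹ =
              (k.1 : G) * h * (k.1 : G)⁻¹ := h1
          simpa using h3
        rwa [h2] at hh
    have : (k.1 : G) ∈ K ⊓ nrm P := ⟨k.1.2, hn⟩
    rwa [hK, Subgroup.mem_bot] at this
  have hcl := Chars.irr_isClassFunction χ
  obtain ⟨a, ha, hsum⟩ := exists_sum_eq_mul (p := 2) P.2 hfix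
    (fun k : {k : K // k ≠ 1} => (χ : G → ℂ) k.1) (fun k => Chars.irr_isIntegral χ _)
    (fun g k => hcl (k.1 : G) (g : G))
  have hm : mult K χ (Chars.trivialIrr K) ≠ 0 := by
    intro h0
    have h1 := classInner_resFun K χ (Chars.trivialIrr K)
    rw [h0, Nat.cast_zero, classInner, mul_eq_zero, inv_eq_zero] at h1
    have h2 := h1.resolve_left (Chars.natCard_ne_zero (G := K))
    simp only [Chars.trivialIrr_apply, map_one, mul_one, resFun] at h2
    rw [← Fintype.sum_subtype_add_sum_subtype (fun k : K => k ≠ 1)] at h2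
    rw [hsum] at h2
    have h3 : ∑ k : {k : K // ¬ k ≠ 1}, (χ : G → ℂ) k.1 = (deg χ : ℂ) := by
      let : Unique {k : K // ¬ k ≠ 1} :=
        { default := ⟨1, by simp⟩, uniq := fun k => Subtype.ext (not_not.mp k.2) }
      rw [Fintype.sum_unique]
      exact deg_cast χ
    rw [h3] at h2
    have hd : IsIntegral ℤ ((deg χ : ℂ) / (2 : ℕ)) := by
      have : (deg χ : ℂ) / (2 : ℕ) = -a := by
        push_cast at h2 ⊢
        linear_combination h2 / 2
      rw [this]; exact ha.neg
    exact Nat.not_even_iff_odd.mpr hχ (even_iff_two_dvd.mpr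
      (Chars.dvd_of_isIntegral_div (by norm_num) hd))
  have hne : classInner (resFun K (χ : G → ℂ)) (Chars.trivialIrr K : K → ℂ) ≠ 0 := by
    rw [classInner_resFun]; exact_mod_cast hm
  have hres := resFun_eq_smul_of_invariant (N := K) χ.2 (Chars.trivialIrr K).2 hne
    (fun g => funext fun k => rfl)
  intro k hk
  rw [Codegree.mem_kerIrr]
  have h1 := congrFun hres ⟨k, hk⟩
  have h2 := congrFun hres 1
  simp only [resFun, Pi.smul_apply, Chars.trivialIrr_apply, OneMemClass.coe_one] at h1 h2
  rw [h1, h2]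

/-- A normal complement makes the two sums agree. -/
theorem oddSum_eq_of_complement (K : Subgroup G) [K.Normal] (hK : K ⊓ nrm P = ⊥)
    (hKN : K ⊔ nrm P = ⊤) : oddSum G = oddSum (nrm P) := by
  classical
  have hc : (nrm P).IsComplement' K :=
    Subgroup.IsComplement'.symm (Subgroup.isComplement'_of_disjoint_and_mul_eq_univ
      (disjoint_iff.mpr hK) (by rw [← Subgroup.normal_mul, hKN, Subgroup.coe_top]))
  let e : G ⧸ K ≃* nrm P := hc.QuotientMulEquiv
  have himg : oddIrr G = (oddIrr (G ⧸ K)).image (Chars.inflate K) := by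
    ext χ
    rw [mem_oddIrr, Finset.mem_image]
    constructor
    · intro h
      obtain ⟨ψ, rfl⟩ := (le_kerIrr_iff K χ).mp (le_kerIrr_of_complement P K hK χ h)
      exact ⟨ψ, mem_oddIrr.mpr h, rfl⟩
    · rintro ⟨ψ, hψ, rfl⟩
      exact (show Odd (deg ψ) from mem_oddIrr.mp hψ)
  have hd : ∀ θ : IrrCharacter (nrm P), deg (Chars.irrCongr e θ) = deg θ := fun θ => by
    refine deg_eq_of_cast ?_
    rw [← deg_cast]
    change (θ : nrm P → ℂ) (e 1) = _
    rw [map_one]
  rw [oddSum, himg, Finset.sum_image fun a _ b _ h => Chars.inflate_injective K h]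
  refine (Finset.sum_equiv (Chars.irrCongr e) (fun θ => by simp [hd]) fun θ _ => ?_).symm
  exact congrArg (· ^ 2) (hd θ).symm

/-- Core of the converse: in the kernel `K₁` the Sylow subgroup has a normal complement. -/
theorem exists_complement_selfNormalizing {K : Type u} [Group K] [Finite K] (R : Sylow 2 K)
    (hle : oddSum K ≤ oddSum (R : Subgroup K)) :
    pPrimeCore 2 K ⊔ (R : Subgroup K) = ⊤ := by
  classical
  have hR : Odd (R : Subgroup K).index := odd_index_sylow R
  obtain ⟨h1, h2⟩ := oddSum_le (R : Subgroup K) hR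
  obtain ⟨hres, hext, hinj⟩ := h2 (le_antisymm h1 hle)
  -- every linear character of `R` extends to a linear character of `K`
  have hLR : commutator K ⊓ (R : Subgroup K) ≤
      (frattini (R : Subgroup K)).map (R : Subgroup K).subtype := by
    rintro x ⟨hx, hxR⟩
    refine ⟨⟨x, hxR⟩, PFrattini.commutator_le_frattini R.2 ?_, rfl⟩
    by_contra hne
    obtain ⟨ψ, hψ, -, hdeg⟩ := exists_quot_ne (commutator (R : Subgroup K)) hne
    set θ := Chars.inflate (commutator (R : Subgroup K)) ψ
    have : IsMulCommutative ((R : Subgroup K) ⧸ commutator (R : Subgroup K)) :=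
      ⟨⟨fun a b => (Abelianization.commGroup (R : Subgroup K)).mul_comm a b⟩⟩
    have hθ1 : deg θ = 1 := by rw [hdeg, deg_eq_one_of_comm]
    obtain ⟨μ, -, hμ⟩ := hext θ (hθ1 ▸ odd_one)
    have hμ1 : (μ : K → ℂ) 1 = 1 := by
      have := congrFun hμ 1
      simp only [resFun, OneMemClass.coe_one] at this
      rw [this, deg_cast, hθ1, Nat.cast_one]
    apply hψ
    rw [Codegree.mem_kerIrr]
    have hx1 := congrFun hμ ⟨x, hxR⟩
    simp only [resFun] at hx1
    rw [← hx1, CharsElem.eq_one_of_mem_commutator (Chars.irr_isCharacter μ) hμ1 hx, deg_cast, hθ1,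
      Nat.cast_one]
  -- `K` is generated by `K'` and `R`
  have hgen : commutator K ⊔ (R : Subgroup K) = ⊤ := by
    set M := commutator K ⊔ (R : Subgroup K) with hM
    have hMn : M.Normal := Subgroup.Normal.of_commutator_le K le_sup_left
    refine eq_top_iff.mpr fun x _ => ?_
    by_contra hx
    obtain ⟨ψ, hψ, hker, hdeg⟩ := exists_quot_ne M hx
    set μ := Chars.inflate M ψ
    have : IsMulCommutative (K ⧸ M) := ⟨⟨fun a b => by
      obtain ⟨a, rfl⟩ := QuotientGroup.mk'_surjective M a
      obtain ⟨b, rfl⟩ := QuotientGroup.mk'_surjective M b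
      rw [← map_mul, ← map_mul]
      refine QuotientGroup.eq.mpr (le_sup_left (a := commutator K) ?_)
      rw [commutator_def, show (a * b)⁻¹ * (b * a) = ⁅b⁻¹, a⁻¹⁆ by
        rw [commutatorElement_def]; group]
      exact Subgroup.commutator_mem_commutator (Subgroup.mem_top _) (Subgroup.mem_top _)⟩⟩
    have hμ1 : deg μ = 1 := by rw [hdeg, deg_eq_one_of_comm]
    have htriv : μ = Chars.trivialIrr K := by
      refine hinj μ _ (hμ1 ▸ odd_one) ?_ (funext fun r => ?_)
      · rw [deg_eq_of_cast (d := 1) (by simp)]; exact odd_one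
      · simp only [resFun, Chars.trivialIrr_apply]
        rw [(Codegree.mem_kerIrr μ).mp (hker (le_sup_right (a := commutator K) r.2)), deg_cast,
          hμ1, Nat.cast_one]
    exact hψ (by rw [htriv, Codegree.mem_kerIrr]; simp)
  -- the odd part of `K'` lies in the core
  set L := commutator K with hL
  obtain ⟨PL, C, hCn, hC⟩ := Cfsg.Agent.S0081.result R L hLR
  set M := pPrimeCore 2 K ⊔ (R : Subgroup K) with hM
  have hCo : (Nat.card C).Coprime 2 := by
    rw [← hC.index_eq_card, Nat.coprime_comm, Nat.prime_two.coprime_iff_not_dvd]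
    exact PL.not_dvd_index
  have hCM : C.map L.subtype ≤ M := by
    refine (Subgroup.map_mono (PSolvable.le_pPrimeCore hCo)).trans (le_trans ?_ le_sup_left)
    have := PSolvable.map_subtype_pPrimeCore_normal (p := 2) L
    refine PSolvable.le_pPrimeCore ?_
    rw [Subgroup.card_map_of_injective L.subtype_injective]
    exact PSolvable.pPrimeCore_coprime
  have hCidx : ∃ k, C.index = 2 ^ k := by
    obtain ⟨k, hk⟩ := PL.2.exists_card_eq
    exact ⟨k, by rw [hC.symm.index_eq_card, ← hk]⟩
  obtain ⟨k, hk⟩ := hCidx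
  have hdvd : M.relIndex L ∣ 2 ^ k := by
    rw [← hk, Subgroup.relIndex]
    refine Subgroup.index_dvd_of_le fun c hc => ?_
    exact hCM ⟨c, hc, rfl⟩
  have hModd : Odd M.index := odd_index_of_le R le_sup_right
  have htop : L ⊔ M = ⊤ :=
    top_le_iff.mp (hgen ▸ sup_le_sup_left (le_sup_right : (R : Subgroup K) ≤ M) L)
  have hrel : L.relIndex M = L.index := by
    rw [← Subgroup.relIndex_sup_left (K := L) (H := M), htop, Subgroup.relIndex_top_right]
  have heq : M.relIndex L * L.index = L.relIndex M * M.index := by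
    rw [← Subgroup.inf_relIndex_right M L, Subgroup.relIndex_mul_index inf_le_right,
      ← Subgroup.inf_relIndex_right L M, inf_comm L M,
      Subgroup.relIndex_mul_index inf_le_left]
  rw [hrel, mul_comm L.index] at heq
  have hMi : M.relIndex L = M.index :=
    Nat.eq_of_mul_eq_mul_right (Nat.pos_of_ne_zero Subgroup.index_ne_zero_of_finite) heq
  obtain ⟨i, -, hi⟩ := (Nat.dvd_prime_pow Nat.prime_two).mp (hMi ▸ hdvd)
  rcases i with _ | i
  · exact Subgroup.index_eq_one.mp (by simpa using hi)
  · exact absurd ((Nat.even_pow.mpr ⟨even_two, by omega⟩ : Even (2 ^ (i + 1))))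
      (Nat.not_even_iff_odd.mpr (hi ▸ hModd))

/-- Equality of the two sums gives a normal complement of the normalizer. -/
theorem exists_complement_of_oddSum_eq (h : oddSum G = oddSum (nrm P)) :
    ∃ K : Subgroup G, K.Normal ∧ K ⊓ nrm P = ⊥ ∧ K ⊔ nrm P = ⊤ := by
  classical
  obtain ⟨-, hext, -⟩ := (oddSum_le (nrm P) (odd_index_of_le P (le_nrm P))).2 h.symm
  let K1 : Subgroup G := ⨅ χ : {χ : IrrCharacter G //
    Odd (deg χ) ∧ (P : Subgroup G) ≤ Codegree.kerIrr χ}, Codegree.kerIrr χ.1
  have hK1 : K1.Normal := Subgroup.normal_iInf_normal fun χ => Codegree.kerIrr_normal χ.1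
  have hPK1 : (P : Subgroup G) ≤ K1 := le_iInf fun χ => χ.2.2
  have hinf : K1 ⊓ nrm P = (P : Subgroup G) := by
    refine le_antisymm ?_ (le_inf hPK1 (le_nrm P))
    rintro x ⟨hx, hxN⟩
    by_contra hne
    obtain ⟨ψ, hψ, hker, -⟩ := exists_quot_ne (sylN P) (x := ⟨x, hxN⟩) hne
    set θ := Chars.inflate (sylN P) ψ
    have hθ : Odd (deg θ) := (odd_deg_iff (sylN P) (isPGroup_sylN P) (odd_index_sylN P) θ).mpr
      ((Subgroup.map_subtype_le _).trans hker)
    obtain ⟨χ, hχ, hres⟩ := hext θ hθ
    have hone : (θ : nrm P → ℂ) 1 = (χ : G → ℂ) 1 := by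
      rw [← hres]; rfl
    have hPχ : (P : Subgroup G) ≤ Codegree.kerIrr χ := fun y hy => by
      rw [Codegree.mem_kerIrr, ← hone, ← (Codegree.mem_kerIrr θ).mp
        (hker (show (⟨y, le_nrm P hy⟩ : nrm P) ∈ sylN P from hy)), ← hres]
      rfl
    have hxχ := (Codegree.mem_kerIrr χ).mp (Subgroup.mem_iInf.mp hx ⟨χ, hχ, hPχ⟩)
    apply hψ
    rw [Codegree.mem_kerIrr, hone, ← hxχ, ← hres]
    rfl
  have hKN : K1 ⊔ nrm P = ⊤ := by
    rw [sup_comm]
    exact Sylow.normalizer_sup_eq_top' P hPK1
  let R : Sylow 2 K1 := P.subtype hPK1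
  have hRcoe : (R : Subgroup K1) = (P : Subgroup G).subgroupOf K1 := rfl
  let e : (R : Subgroup K1) ≃* (P : Subgroup G) := Subgroup.subgroupOfEquivOfLe hPK1
  -- the index of `K₁` is `|N : P|`
  have hidx : K1.index * Nat.card (P : Subgroup G) = Nat.card (nrm P) := by
    have h1 : K1.index = K1.relIndex (nrm P) := by
      rw [← Subgroup.relIndex_sup_left (K := K1) (H := nrm P), hKN, Subgroup.relIndex_top_right]
    rw [h1, ← Subgroup.inf_relIndex_right K1, hinf, mul_comm,
      ← Nat.card_congr (Subgroup.subgroupOfEquivOfLe (le_nrm P)).toEquiv]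
    exact Subgroup.card_mul_index _
  have hR : oddSum (R : Subgroup K1) * Nat.card (commutator (P : Subgroup G)) =
      Nat.card (P : Subgroup G) := by
    have hQ : ((⊤ : Subgroup (R : Subgroup K1)).index) = 1 := Subgroup.index_top
    rw [oddSum_eq_index (⊤ : Subgroup (R : Subgroup K1)) (R.2.to_subgroup _) (hQ ▸ odd_one),
      ← card_commutator_congr e, ← Nat.card_congr e.toEquiv,
      card_commutator_congr (Subgroup.topEquiv (G := (R : Subgroup K1))).symm,
      Nat.card_congr ((commutator (⊤ : Subgroup (R : Subgroup K1))).equivMapOfInjective _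
        (Subgroup.subtype_injective _)).toEquiv, mul_comm, Subgroup.card_mul_index]
  have hsum : oddSum K1 ≤ oddSum (R : Subgroup K1) := by
    have h1 := index_mul_oddSum_le K1 (odd_index_of_le P hPK1)
    rw [h] at h1
    refine Nat.le_of_mul_le_mul_left ?_ (Nat.pos_of_ne_zero (Subgroup.index_ne_zero_of_finite (H := K1)))
    refine Nat.le_of_mul_le_mul_right (le_of_le_of_eq (Nat.mul_le_mul_right _ h1) ?_)
      (Nat.card_pos (α := commutator (P : Subgroup G)))
    rw [mul_assoc, hR, hidx, card_nrm P, mul_comm]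
  have hcore := exists_complement_selfNormalizing R hsum
  refine ⟨(pPrimeCore 2 K1).map K1.subtype, PSolvable.map_subtype_pPrimeCore_normal K1, ?_, ?_⟩
  · have hle : (pPrimeCore 2 K1).map K1.subtype ≤ K1 := Subgroup.map_subtype_le _
    have hcop : (Nat.card ((pPrimeCore 2 K1).map K1.subtype)).Coprime 2 := by
      rw [Subgroup.card_map_of_injective K1.subtype_injective]
      exact PSolvable.pPrimeCore_coprime
    refine le_bot_iff.mp ?_
    calc (pPrimeCore 2 K1).map K1.subtype ⊓ nrm P
        ≤ (P : Subgroup G) ⊓ (pPrimeCore 2 K1).map K1.subtype :=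
          le_inf ((inf_le_inf_right _ hle).trans hinf.le) inf_le_left
      _ = ⊥ := PSolvable.inf_eq_bot_of_isPGroup_of_coprime P.2 hcop
  · refine top_le_iff.mp (hKN ▸ sup_le ?_ le_sup_right)
    have h1 := congrArg (Subgroup.map K1.subtype) hcore
    rw [Subgroup.map_sup, hRcoe, Subgroup.subgroupOf_map_subtype, inf_of_le_left hPK1,
      ← MonoidHom.range_eq_map, Subgroup.range_subtype] at h1
    conv_lhs => rw [← h1]
    exact sup_le le_sup_left ((le_nrm P).trans le_sup_right)

end Cfsg.Agent.Lib.OddDegree
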