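import Cfsg.Agent.Lib.Chars.PResidualDegree
import Cfsg.Agent.Lib.KGV.Basic
import Cfsg.Agent.Lib.Codegree

/-!
# Squares of odd degrees along subgroups of odd index
-/

set_option autoImplicit false

namespace Cfsg.Agent.Lib.OddDegree

open Cfsg Cfsg.Agent.Lib Cfsg.Agent.Lib.Clifford
open scoped commutatorElement

universe u

variable {G : Type u} [Group G] [Finite G]

/-- The degree of an irreducible character. -/
noncomputable abbrev deg {G : Type u} [Group G] (χ : IrrCharacter G) : ℕ :=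
  charDegree (χ : G → ℂ)

theorem deg_pos (χ : IrrCharacter G) : 0 < deg χ := (Chars.charDegree_spec χ).1

theorem deg_cast (χ : IrrCharacter G) : (χ : G → ℂ) 1 = (deg χ : ℂ) :=
  (Chars.charDegree_spec χ).2

omit [Finite G] in
theorem deg_eq_of_cast {χ : IrrCharacter G} {d : ℕ} (h : (χ : G → ℂ) 1 = (d : ℂ)) :
    deg χ = d := Codegree.charDegree_eq h

/-- The irreducible characters of odd degree. -/
noncomputable def oddIrr (G : Type u) [Group G] [Finite G] : Finset (IrrCharacter G) :=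
  letI := Fintype.ofFinite (IrrCharacter G)
  Finset.univ.filter fun χ => Odd (deg χ)

@[simp] theorem mem_oddIrr {χ : IrrCharacter G} : χ ∈ oddIrr G ↔ Odd (deg χ) := by
  simp [oddIrr]

/-- The sum of the squares of the odd degrees. -/
noncomputable def oddSum (G : Type u) [Group G] [Finite G] : ℕ :=
  ∑ χ ∈ oddIrr G, deg χ ^ 2

section Mult

variable (H : Subgroup G)

/-- The multiplicities in a restriction. -/
noncomputable def mult (χ : IrrCharacter G) : IrrCharacter H → ℕ :=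
  (Chars.isCharacter_exists_nat_decomp
    (Chars.isCharacter_restrict H (Chars.irr_isCharacter χ))).choose

theorem resFun_eq_sum (χ : IrrCharacter G) :
    resFun H (χ : G → ℂ) = ∑ θ, (mult H χ θ : ℂ) • (θ : H → ℂ) :=
  (Chars.isCharacter_exists_nat_decomp
    (Chars.isCharacter_restrict H (Chars.irr_isCharacter χ))).choose_spec

theorem classInner_resFun [Fintype H] (χ : IrrCharacter G) (θ : IrrCharacter H) :
    classInner (resFun H (χ : G → ℂ)) (θ : H → ℂ) = (mult H χ θ : ℂ) := by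
  rw [resFun_eq_sum, Chars.classInner_sum_smul_irr]

theorem sum_mult_mul_deg (χ : IrrCharacter G) :
    ∑ θ, mult H χ θ * deg θ = deg χ := by
  have h := congrFun (resFun_eq_sum H χ) 1
  simp only [resFun, OneMemClass.coe_one, deg_cast, Finset.sum_apply, Pi.smul_apply,
    smul_eq_mul] at h
  exact_mod_cast h.symm

theorem deg_le_of_mult {χ : IrrCharacter G} {θ : IrrCharacter H} (h : mult H χ θ ≠ 0) :
    deg θ ≤ deg χ :=
  calc deg θ ≤ mult H χ θ * deg θ := Nat.le_mul_of_pos_left _ (Nat.pos_of_ne_zero h)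
    _ ≤ ∑ ψ, mult H χ ψ * deg ψ :=
      Finset.single_le_sum (f := fun ψ => mult H χ ψ * deg ψ) (fun _ _ => Nat.zero_le _)
        (Finset.mem_univ θ)
    _ = deg χ := sum_mult_mul_deg H χ

theorem resFun_eq_of_deg_eq {χ : IrrCharacter G} {θ : IrrCharacter H} (h : mult H χ θ ≠ 0)
    (hd : deg χ = deg θ) : resFun H (χ : G → ℂ) = (θ : H → ℂ) := by
  classical
  have hs := sum_mult_mul_deg H χ
  rw [← Finset.add_sum_erase _ _ (Finset.mem_univ θ), hd] at hs
  have hm : deg θ ≤ mult H χ θ * deg θ := Nat.le_mul_of_pos_left _ (Nat.pos_of_ne_zero h)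
  have hm1 : mult H χ θ = 1 :=
    Nat.eq_of_mul_eq_mul_right (deg_pos θ) (by omega)
  have h0 : ∀ ψ, ψ ≠ θ → mult H χ ψ = 0 := fun ψ hψ => by
    have : ∑ φ ∈ Finset.univ.erase θ, mult H χ φ * deg φ = 0 := by omega
    have := Finset.sum_eq_zero_iff.mp this ψ (Finset.mem_erase.mpr ⟨hψ, Finset.mem_univ _⟩)
    exact (mul_eq_zero.mp this).resolve_right (deg_pos ψ).ne'
  rw [resFun_eq_sum, Finset.sum_eq_single θ (fun ψ _ hψ => by simp [h0 ψ hψ]) (by simp), hm1,
    Nat.cast_one, one_smul]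

/-- The multiplicities over a fixed character, weighted by degrees. -/
theorem sum_deg_mul_mult (θ : IrrCharacter H) :
    ∑ χ : IrrCharacter G, deg χ * mult H χ θ = H.index * deg θ := by
  classical
  cases nonempty_fintype G
  have := Fintype.ofFinite H
  have h := Chars.isClassFunction_apply_eq_sum_classInner
    (Chars.isClassFunction_indFun H (θ : H → ℂ)) 1
  rw [Chars.indFun_one_eq, deg_cast] at h
  have hm : ∀ χ : IrrCharacter G,
      classInner (indFun H (θ : H → ℂ)) (χ : G → ℂ) = (mult H χ θ : ℂ) := fun χ => by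
    rw [Chars.classInner_indFun_left H _ _ (Chars.irr_isClassFunction χ),
      ← Chars.conj_classInner]
    change (starRingEnd ℂ) (classInner (resFun H (χ : G → ℂ)) (θ : H → ℂ)) = _
    rw [classInner_resFun, Complex.conj_natCast]
  simp only [hm, deg_cast] at h
  refine Nat.cast_injective (R := ℂ) ?_
  push_cast
  rw [h]
  exact Finset.sum_congr rfl fun χ _ => mul_comm _ _

theorem exists_dvd_index [H.Normal] {χ : IrrCharacter G} {θ : IrrCharacter H}
    (h : mult H χ θ ≠ 0) : ∃ x, x ∣ H.index ∧ deg χ = deg θ * x := by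
  classical
  cases nonempty_fintype G
  have := Fintype.ofFinite H
  obtain ⟨k, π, hπ, hπχ⟩ := χ.2
  obtain ⟨j, σ, hσ, hσθ⟩ := θ.2
  have := hπ
  have := hσ
  have hne : classInner (resFun H (χ : G → ℂ)) (θ : H → ℂ) ≠ 0 := by
    rw [classInner_resFun]; exact_mod_cast h
  have hnt : Nontrivial (Representation.IntertwiningMap σ (CharExt.resRep H π)) := by
    refine Module.nontrivial_of_finrank_pos (R := ℂ) (Nat.pos_of_ne_zero fun h0 => hne ?_)
    have hr : (CharExt.resRep H π).character = resFun H (χ : G → ℂ) := by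
      funext n; rw [resFun, ← hπχ]; rfl
    rw [← hr, ← hσθ, Chars.classInner_char_eq_finrank, h0, Nat.cast_zero]
  obtain ⟨x, hx, hdim⟩ := CharExt.exists_dvd_index_finrank_eq H σ π
  refine ⟨x, hx, ?_⟩
  have e1 : deg χ = Module.finrank ℂ (Fin k → ℂ) :=
    deg_eq_of_cast (by rw [← hπχ, Representation.char_one])
  have e2 : deg θ = Module.finrank ℂ (Fin j → ℂ) :=
    deg_eq_of_cast (by rw [← hσθ, Representation.char_one])
  rw [e1, e2, hdim]

theorem odd_deg_of_mult [H.Normal] (hH : Odd H.index) {χ : IrrCharacter G}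
    {θ : IrrCharacter H} (hθ : Odd (deg θ)) (h : mult H χ θ ≠ 0) : Odd (deg χ) := by
  obtain ⟨x, hx, he⟩ := exists_dvd_index H h
  rw [he]
  exact hθ.mul (hH.of_dvd_nat hx)

theorem exists_odd_over (hH : Odd H.index) {θ : IrrCharacter H} (hθ : Odd (deg θ)) :
    ∃ χ : IrrCharacter G, Odd (deg χ) ∧ mult H χ θ ≠ 0 := by
  by_contra hc
  push Not at hc
  have he : Even (∑ χ : IrrCharacter G, deg χ * mult H χ θ) := by
    refine Finset.even_sum _ fun χ _ => ?_
    rcases Nat.even_or_odd (deg χ) with h | h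
    · exact h.mul_right _
    · simp [hc χ h]
  rw [sum_deg_mul_mult] at he
  exact Nat.not_even_iff_odd.mpr (hH.mul hθ) he

/-- For an odd index the sum of the squares of the odd degrees can only grow, and if it does not,
restriction is a bijection of the characters of odd degree. -/
theorem oddSum_le (hH : Odd H.index) :
    oddSum H ≤ oddSum G ∧ (oddSum H = oddSum G →
      (∀ χ : IrrCharacter G, Odd (deg χ) →
        ∃ θ : IrrCharacter H, Odd (deg θ) ∧ resFun H (χ : G → ℂ) = (θ : H → ℂ)) ∧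
      (∀ θ : IrrCharacter H, Odd (deg θ) →
        ∃ χ : IrrCharacter G, Odd (deg χ) ∧ resFun H (χ : G → ℂ) = (θ : H → ℂ)) ∧
      ∀ χ χ' : IrrCharacter G, Odd (deg χ) → Odd (deg χ') →
        resFun H (χ : G → ℂ) = resFun H (χ' : G → ℂ) → χ = χ') := by
  classical
  have hex : ∀ θ : IrrCharacter H, ∃ χ : IrrCharacter G,
      Odd (deg θ) → Odd (deg χ) ∧ mult H χ θ ≠ 0 := fun θ => by
    by_cases hθ : Odd (deg θ)
    · obtain ⟨χ, h⟩ := exists_odd_over H hH hθ
      exact ⟨χ, fun _ => h⟩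
    · exact ⟨Chars.trivialIrr G, fun h => absurd h hθ⟩
  choose f hf using hex
  set fib : IrrCharacter G → Finset (IrrCharacter H) :=
    fun χ => (oddIrr H).filter (fun θ => f θ = χ) with hfib
  have hsplit : oddSum H = ∑ χ ∈ oddIrr G, ∑ θ ∈ fib χ, deg θ ^ 2 :=
    (Finset.sum_fiberwise_of_maps_to (fun θ hθ => mem_oddIrr.mpr (hf θ (mem_oddIrr.mp hθ)).1) _).symm
  have hsub : ∀ χ, ∀ θ ∈ fib χ, mult H χ θ ≠ 0 := fun χ θ hθ => by
    obtain ⟨hθo, rfl⟩ := Finset.mem_filter.mp hθ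
    exact (hf θ (mem_oddIrr.mp hθo)).2
  have hsum : ∀ χ, ∑ θ ∈ fib χ, deg θ ≤ deg χ := fun χ =>
    calc ∑ θ ∈ fib χ, deg θ ≤ ∑ θ ∈ fib χ, mult H χ θ * deg θ :=
          Finset.sum_le_sum fun θ hθ =>
            Nat.le_mul_of_pos_left _ (Nat.pos_of_ne_zero (hsub χ θ hθ))
      _ ≤ ∑ θ, mult H χ θ * deg θ :=
          Finset.sum_le_sum_of_subset_of_nonneg (Finset.subset_univ _) fun _ _ _ => Nat.zero_le _
      _ = deg χ := sum_mult_mul_deg H χ
  have h1 : ∀ χ, ∀ θ ∈ fib χ, deg θ ^ 2 ≤ deg χ * deg θ := fun χ θ hθ => by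
    rw [sq]; exact Nat.mul_le_mul_right _ (deg_le_of_mult H (hsub χ θ hθ))
  have hle : ∀ χ ∈ oddIrr G, ∑ θ ∈ fib χ, deg θ ^ 2 ≤ deg χ ^ 2 := fun χ _ =>
    (Finset.sum_le_sum (h1 χ)).trans (by
      rw [← Finset.mul_sum, sq]; exact Nat.mul_le_mul_left _ (hsum χ))
  refine ⟨by rw [hsplit]; exact Finset.sum_le_sum hle, fun heq => ?_⟩
  rw [hsplit] at heq
  have heach := (Finset.sum_eq_sum_iff_of_le hle).mp heq
  have hone : ∀ χ, Odd (deg χ) →
      ∃ θ₀ ∈ fib χ, resFun H (χ : G → ℂ) = (θ₀ : H → ℂ) := fun χ hχ => by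
    have he := heach χ (mem_oddIrr.mpr hχ)
    have hne : (fib χ).Nonempty := by
      by_contra h0
      rw [Finset.not_nonempty_iff_eq_empty.mp h0, Finset.sum_empty] at he
      exact pow_ne_zero 2 (deg_pos χ).ne' he.symm
    obtain ⟨θ₀, hθ₀⟩ := hne
    refine ⟨θ₀, hθ₀, resFun_eq_of_deg_eq H (hsub χ θ₀ hθ₀) ?_⟩
    have h2 : ∑ θ ∈ fib χ, deg χ * deg θ ≤ ∑ θ ∈ fib χ, deg θ ^ 2 := by
      rw [← Finset.mul_sum, he, sq]; exact Nat.mul_le_mul_left _ (hsum χ)
    have h3 := (Finset.sum_eq_sum_iff_of_le (h1 χ)).mp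
      (le_antisymm (Finset.sum_le_sum (h1 χ)) h2) θ₀ hθ₀
    exact (Nat.eq_of_mul_eq_mul_right (deg_pos θ₀) (by rw [← h3, sq])).symm
  have hres : ∀ θ, Odd (deg θ) → resFun H (f θ : G → ℂ) = (θ : H → ℂ) := fun θ hθ => by
    obtain ⟨θ₀, -, h⟩ := hone _ (hf θ hθ).1
    cases nonempty_fintype H
    have hmem : θ ∈ fib (f θ) := Finset.mem_filter.mpr ⟨mem_oddIrr.mpr hθ, rfl⟩
    have h4 : classInner (resFun H (f θ : G → ℂ)) (θ : H → ℂ) ≠ 0 := by
      rw [classInner_resFun]; exact_mod_cast hsub _ _ hmem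
    have he0 : θ₀ = θ := by
      by_contra hne
      exact h4 (by rw [h, Chars.classInner_irr_of_ne hne])
    rw [h, he0]
  refine ⟨fun χ hχ => ?_, fun θ hθ => ⟨f θ, (hf θ hθ).1, hres θ hθ⟩, fun χ χ' hχ hχ' he => ?_⟩
  · obtain ⟨θ₀, hmem, h⟩ := hone χ hχ
    exact ⟨θ₀, mem_oddIrr.mp (Finset.mem_filter.mp hmem).1, h⟩
  · obtain ⟨θ₀, hmem, h⟩ := hone χ hχ
    obtain ⟨θ₁, hmem', h'⟩ := hone χ' hχ'
    have hθ : θ₀ = θ₁ := Subtype.ext (h.symm.trans (he.trans h'))
    rw [← (Finset.mem_filter.mp hmem).2, ← (Finset.mem_filter.mp hmem').2, hθ]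

/-- For a normal subgroup of odd index the sum grows at least by the index. -/
theorem index_mul_oddSum_le [H.Normal] (hH : Odd H.index) :
    H.index * oddSum H ≤ oddSum G := by
  classical
  calc H.index * oddSum H = ∑ μ ∈ oddIrr H, (∑ χ : IrrCharacter G, deg χ * mult H χ μ) * deg μ := by
        rw [oddSum, Finset.mul_sum]
        exact Finset.sum_congr rfl fun μ _ => by rw [sum_deg_mul_mult, sq, mul_assoc]
    _ = ∑ μ ∈ oddIrr H, (∑ χ ∈ oddIrr G, deg χ * mult H χ μ) * deg μ := by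
        refine Finset.sum_congr rfl fun μ hμ => ?_
        rw [← Finset.sum_subset (Finset.subset_univ (oddIrr G)) fun χ _ hχ => ?_]
        rw [mul_eq_zero]
        refine Or.inr (by_contra fun h => hχ (mem_oddIrr.mpr ?_))
        exact odd_deg_of_mult H hH (mem_oddIrr.mp hμ) h
    _ = ∑ χ ∈ oddIrr G, deg χ * ∑ μ ∈ oddIrr H, mult H χ μ * deg μ := by
        simp only [Finset.sum_mul, Finset.mul_sum, mul_assoc]
        rw [Finset.sum_comm]
    _ ≤ oddSum G := by
        refine Finset.sum_le_sum fun χ _ => ?_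
        rw [sq]
        refine Nat.mul_le_mul_left _ ?_
        rw [← sum_mult_mul_deg H χ]
        exact Finset.sum_le_sum_of_subset_of_nonneg (Finset.subset_univ _) fun _ _ _ => Nat.zero_le _

end Mult

/-! ### Characters with a given kernel -/

/-- Elements outside a normal subgroup are separated by characters of the quotient. -/
theorem exists_quot_ne (N : Subgroup G) [N.Normal] {x : G} (hx : x ∉ N) :
    ∃ ψ : IrrCharacter (G ⧸ N), x ∉ Codegree.kerIrr (Chars.inflate N ψ) ∧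
      N ≤ Codegree.kerIrr (Chars.inflate N ψ) ∧ deg (Chars.inflate N ψ) = deg ψ := by
  classical
  cases nonempty_fintype G
  have := Fintype.ofFinite (G ⧸ N)
  obtain ⟨ψ, hψ⟩ : ∃ ψ : IrrCharacter (G ⧸ N),
      (ψ : G ⧸ N → ℂ) (x : G ⧸ N) ≠ (ψ : G ⧸ N → ℂ) 1 := by
    by_contra h
    push Not at h
    exact hx ((QuotientGroup.eq_one_iff x).mp (isConj_one_left.mp (Chars.isConj_iff_irr.mpr h)))
  refine ⟨ψ, fun hm => hψ (((Codegree.mem_kerIrr (Chars.inflate N ψ)).mp hm :)), fun n hn => ?_, rfl⟩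
  rw [Codegree.mem_kerIrr]
  change (ψ : G ⧸ N → ℂ) (n : G ⧸ N) = (ψ : G ⧸ N → ℂ) 1
  rw [(QuotientGroup.eq_one_iff n).mpr hn]

theorem le_kerIrr_iff (N : Subgroup G) [N.Normal] (χ : IrrCharacter G) :
    N ≤ Codegree.kerIrr χ ↔ ∃ ψ, Chars.inflate N ψ = χ := by
  constructor
  · intro h
    obtain ⟨ψ, hψ⟩ := Chars.exists_irr_quotient N χ fun x hx => (Codegree.mem_kerIrr χ).mp (h hx)
    exact ⟨ψ, Subtype.ext (funext hψ)⟩
  · rintro ⟨ψ, rfl⟩ n hn
    rw [Codegree.mem_kerIrr]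
    change (ψ : G ⧸ N → ℂ) (n : G ⧸ N) = (ψ : G ⧸ N → ℂ) 1
    rw [(QuotientGroup.eq_one_iff n).mpr hn]

theorem deg_eq_one_of_comm {A : Type u} [Group A] [Finite A] [IsMulCommutative A]
    (χ : IrrCharacter A) : deg χ = 1 :=
  deg_eq_of_cast (by rw [Chars.irr_apply_one_of_comm, Nat.cast_one])

theorem deg_eq_one_of_odd_of_isPGroup (hG : IsPGroup 2 G) {χ : IrrCharacter G}
    (h : Odd (deg χ)) : deg χ = 1 := by
  obtain ⟨n, -, hn, hdvd⟩ := Chars.irr_degree_dvd_card χ
  obtain ⟨k, hk⟩ := hG.exists_card_eq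
  rw [hk, ← deg_eq_of_cast hn] at hdvd
  obtain ⟨i, -, hi⟩ := (Nat.dvd_prime_pow Nat.prime_two).mp hdvd
  rcases i with _ | i
  · simpa using hi
  · exact absurd ((Nat.even_pow.mpr ⟨even_two, by omega⟩ : Even (2 ^ (i + 1))))
      (Nat.not_even_iff_odd.mpr (hi ▸ h))

/-- With a normal `2`-subgroup `Q` of odd index, odd degree means trivial on `Q'`. -/
theorem odd_deg_iff (Q : Subgroup G) [Q.Normal] (hQ : IsPGroup 2 Q) (hi : Odd Q.index)
    (χ : IrrCharacter G) :
    Odd (deg χ) ↔ (commutator Q).map Q.subtype ≤ Codegree.kerIrr χ := by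
  classical
  constructor
  · rintro h _ ⟨c, hc, rfl⟩
    rw [Codegree.mem_kerIrr]
    change resFun Q (χ : G → ℂ) c = (χ : G → ℂ) 1
    rw [← sum_mult_mul_deg Q χ] at h
    rw [deg_cast, ← sum_mult_mul_deg Q χ, resFun_eq_sum, Finset.sum_apply, Nat.cast_sum]
    refine Finset.sum_congr rfl fun ψ _ => ?_
    rw [Pi.smul_apply, smul_eq_mul, Nat.cast_mul]
    by_cases hm : mult Q χ ψ = 0
    · simp [hm]
    obtain ⟨x, -, hd⟩ := exists_dvd_index Q hm
    have h1 : deg ψ = 1 := deg_eq_one_of_odd_of_isPGroup hQ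
      ((sum_mult_mul_deg Q χ ▸ h : Odd (deg χ)).of_dvd_nat ⟨x, hd⟩)
    rw [h1, Nat.cast_one, CharsElem.eq_one_of_mem_commutator (Chars.irr_isCharacter ψ)
      (by rw [deg_cast, h1, Nat.cast_one]) hc]
  · intro h
    obtain ⟨ψ, rfl⟩ := (le_kerIrr_iff _ χ).mp h
    have := Subgroup.Normal.map (inferInstance : Q.Normal)
      (QuotientGroup.mk' ((commutator Q).map Q.subtype)) (QuotientGroup.mk'_surjective _)
    have hab : ∀ x ∈ Q.map (QuotientGroup.mk' ((commutator Q).map Q.subtype)),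
        ∀ y ∈ Q.map (QuotientGroup.mk' ((commutator Q).map Q.subtype)), x * y = y * x := by
      rintro _ ⟨a, ha, rfl⟩ _ ⟨b, hb, rfl⟩
      rw [← map_mul, ← map_mul]
      refine QuotientGroup.eq.mpr ?_
      refine ⟨(⟨a, ha⟩ * ⟨b, hb⟩)⁻¹ * (⟨b, hb⟩ * ⟨a, ha⟩), ?_, rfl⟩
      generalize (⟨a, ha⟩ : Q) = a', (⟨b, hb⟩ : Q) = b'
      rw [commutator_def, show (a' * b')⁻¹ * (b' * a') = ⁅b'⁻¹, a'⁻¹⁆ by
        rw [commutatorElement_def]; group]
      exact Subgroup.commutator_mem_commutator (Subgroup.mem_top _) (Subgroup.mem_top _)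
    obtain ⟨d, -, hd, hdvd⟩ := KGV.exists_degree_dvd_index
      (Q.map (QuotientGroup.mk' ((commutator Q).map Q.subtype))) hab ψ
    rw [Subgroup.index_map_eq _ (QuotientGroup.mk'_surjective _)
      (by rw [QuotientGroup.ker_mk']; exact Subgroup.map_subtype_le _)] at hdvd
    have hdeg : deg (Chars.inflate ((commutator Q).map Q.subtype) ψ) = d := deg_eq_of_cast hd
    rw [hdeg]
    exact hi.of_dvd_nat hdvd

/-- The sum of the squares of the odd degrees with a normal Sylow `2`-subgroup. -/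
theorem oddSum_eq_index (Q : Subgroup G) [Q.Normal] (hQ : IsPGroup 2 Q) (hi : Odd Q.index) :
    oddSum G = ((commutator Q).map Q.subtype).index := by
  classical
  set D := (commutator Q).map Q.subtype
  have := Fintype.ofFinite (G ⧸ D)
  have himg : oddIrr G = Finset.univ.image (Chars.inflate D) := by
    ext χ
    simp [odd_deg_iff Q hQ hi, le_kerIrr_iff, D]
  rw [oddSum, himg, Finset.sum_image fun a _ b _ h => Chars.inflate_injective D h]
  have h := Chars.sum_degree_sq (G := G ⧸ D)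
  simp only [deg_cast, ← Nat.cast_pow, ← Nat.cast_sum, Nat.cast_inj] at h
  rw [Subgroup.index_eq_card, ← h]
  rfl

/-! ### A parity lemma for sums of invariant algebraic integers -/

/-- An invariant sum over an action without fixed points is `p` times an algebraic integer. -/
theorem exists_sum_eq_mul {p : ℕ} [Fact p.Prime] {P : Type*} [Group P] (hP : IsPGroup p P)
    {X : Type*} [Fintype X] [MulAction P X] (hfix : IsEmpty (MulAction.fixedPoints P X))
    (f : X → ℂ) (hint : ∀ x, IsIntegral ℤ (f x)) (hf : ∀ (g : P) (x : X), f (g • x) = f x) :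
    ∃ a : ℂ, IsIntegral ℤ a ∧ ∑ x, f x = (p : ℂ) * a := by
  classical
  have hfib : ∀ c : ℂ, ∃ k : ℕ, (Finset.univ.filter (fun x => f x = c)).card = p * k := fun c => by
    let Y : SubMulAction P X :=
      { carrier := {x | f x = c}
        smul_mem' := fun g x hx => (hf g x).trans hx }
    have h := hP.card_modEq_card_fixedPoints Y
    have : IsEmpty (MulAction.fixedPoints P Y) :=
      ⟨fun y => hfix.elim ⟨y.1.1, fun g => congrArg Subtype.val (y.2 g)⟩⟩
    rw [Nat.card_of_isEmpty (α := MulAction.fixedPoints P Y)] at h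
    obtain ⟨k, hk⟩ := Nat.modEq_zero_iff_dvd.mp h
    refine ⟨k, ?_⟩
    rw [← hk, ← Fintype.card_subtype, Fintype.card_eq_nat_card]
    exact Nat.card_congr (Equiv.subtypeEquivRight fun x => Iff.rfl)
  choose k hk using hfib
  refine ⟨∑ c ∈ Finset.univ.image f, (k c : ℂ) * c, IsIntegral.sum _ fun c hc => ?_, ?_⟩
  · obtain ⟨x, -, rfl⟩ := Finset.mem_image.mp hc
    exact (isIntegral_algebraMap (R := ℤ) (A := ℂ) (x := (k (f x) : ℤ))).mul (hint x) |> fun h => by
      simpa using h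
  · rw [← Finset.sum_fiberwise_of_maps_to
      (fun x _ => Finset.mem_image_of_mem f (Finset.mem_univ x)) f, Finset.mul_sum]
    refine Finset.sum_congr rfl fun c _ => ?_
    rw [Finset.sum_congr rfl (g := fun _ => c) fun x hx => (Finset.mem_filter.mp hx).2,
      Finset.sum_const, hk, nsmul_eq_mul, Nat.cast_mul, mul_assoc]

end Cfsg.Agent.Lib.OddDegree
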